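import Cfsg.Agent.Lib.PrimeDegrees.Periods
import Cfsg.Agent.Lib.BlocksChars5.SimpleDegrees
import Cfsg.Agent.Lib.BC78.PowChar
import Cfsg.Agent.Lib.Characters.Kernel
import Cfsg.Agent.Lib.Characters.Linear
import Cfsg.Agent.Lib.Chars82.PGroupChars
import Cfsg.Agent.Lib.GaloisMean.CoprimeSylow
import Cfsg.Agent.Lib.Clifford.Basic
import Cfsg.Agent.Lib.Induced.Burnside

/-!
# A non-abelian simple group has a degree that is neither one nor a prime

With `q` the largest degree, assumed prime, a Sylow `q`-subgroup is self-centralizing of order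
`q`; the characters restricting to it without the trivial constituent are the exceptional ones,
and orthogonality of Gauss periods leaves no room for the others.
-/

namespace Cfsg.Agent.Lib.PrimeDegrees.Simple

open scoped ComplexConjugate
open Cfsg.Agent.Lib.Characters Cfsg.Agent.Lib.Characters.Basic
open Cfsg.Agent.Lib.BlocksChars5 Cfsg.Agent.Lib.PrimeDegrees.Periods

universe u

variable {G : Type u} [Group G] [Finite G] [IsSimpleGroup G]

theorem degree_one_eq (hna : ¬ ∀ a b : G, a * b = b * a) (χ : Cfsg.IrrCharacter G)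
    (h : Cfsg.charDegree (χ : G → ℂ) = 1) : χ = oneChar G := by
  have h1 : (χ : G → ℂ) 1 = 1 := by rw [BlocksChars5.Basic.apply_one, h, Nat.cast_one]
  have hval := Linear.degOneHom_apply (isCharacter_irr χ) h1
  rcases (Linear.degOneHom (isCharacter_irr χ) h1).normal_ker.eq_bot_or_eq_top with hk | hk
  · refine absurd (fun a b => ?_) hna
    apply (MonoidHom.ker_eq_bot_iff _).1 hk
    rw [map_mul, map_mul, mul_comm]
  · refine Subtype.ext (funext fun g => ?_)
    rw [oneChar_apply, ← hval, (MonoidHom.mem_ker).1 (hk ▸ Subgroup.mem_top g), Units.val_one]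

theorem eq_one_of_value (hna : ¬ ∀ a b : G, a * b = b * a) (χ : Cfsg.IrrCharacter G)
    (hχ : χ ≠ oneChar G) {g : G} (h : (χ : G → ℂ) g = (χ : G → ℂ) 1) : g = 1 := by
  have h' : Kernel.charKer (isCharacter_irr χ) = ⊥ := by
    rcases (Kernel.charKer_normal (isCharacter_irr χ)).eq_bot_or_eq_top with hk | hk
    · exact hk
    · exfalso
      apply hχ
      have hall : ∀ y, (χ : G → ℂ) y = (χ : G → ℂ) 1 := fun y =>
        (Kernel.mem_charKer _ y).1 (hk ▸ Subgroup.mem_top y)
      by_contra hne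
      haveI := Fintype.ofFinite G
      have h2 := classInner_irr_of_ne hne
      rw [Cfsg.classInner] at h2
      simp only [hall, oneChar_apply, map_one, mul_one, Finset.sum_const, Finset.card_univ,
        nsmul_eq_mul, mul_eq_zero, inv_eq_zero, Nat.cast_eq_zero] at h2
      rcases h2 with h2 | h2 | h2
      · exact Nat.card_pos.ne' h2
      · exact Fintype.card_ne_zero h2
      · exact apply_one_ne_zero χ h2
  rw [← Subgroup.mem_bot, ← h', Kernel.mem_charKer]
  exact h

/-- A Sylow subgroup for a prime degree is its own centralizer and has prime order. -/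
theorem centralizer_sylow (hna : ¬ ∀ a b : G, a * b = b * a) {q : ℕ} [hq : Fact q.Prime]
    (χ : Cfsg.IrrCharacter G) (hχ : Cfsg.charDegree (χ : G → ℂ) = q) (P : Sylow q G) :
    Subgroup.centralizer ((P : Subgroup G) : Set G) = P ∧ Nat.card P = q := by
  classical
  haveI := Fintype.ofFinite G
  have hne : χ ≠ oneChar G := by
    rintro rfl
    exact hq.out.one_lt.ne' (hχ.symm.trans (by simp [Cfsg.charDegree, oneChar_apply]))
  have hqG : q ∣ Nat.card G := hχ ▸ BlocksChars5.Basic.degree_dvd_card χ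
  have h1 : (χ : G → ℂ) 1 = (q : ℂ) := by rw [BlocksChars5.Basic.apply_one, hχ]
  have hPne : Nat.card P ≠ 1 := fun h =>
    hq.out.one_lt.ne' (Nat.dvd_one.1 (h ▸ P.dvd_card_of_dvd_card hqG))
  haveI : Nontrivial P := Finite.one_lt_card_iff_nontrivial.1
    (lt_of_le_of_ne Nat.card_pos (Ne.symm hPne))
  have hres := isCharacter_comp (P : Subgroup G).subtype (isCharacter_irr χ)
  haveI : Fintype P := Fintype.ofFinite P
  haveI : Fintype (Cfsg.IrrCharacter P) := Fintype.ofFinite _
  obtain ⟨θ₀, hθ₀⟩ := Clifford.Basic.exists_constituent hres (fun h =>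
    apply_one_ne_zero χ (congrFun h (1 : P)))
  -- the restriction is a sum of linear characters
  have hlin : ∀ θ : Cfsg.IrrCharacter P,
      Cfsg.classInner ((χ : G → ℂ) ∘ (P : Subgroup G).subtype) θ ≠ 0 → (θ : P → ℂ) 1 = 1 := by
    intro θ hθ
    obtain ⟨d, hd, hdθ⟩ := exists_degree_pos θ
    obtain ⟨k, hk⟩ := P.2.exists_card_eq
    have hdd : d ∣ q ^ k := by
      have := BlocksChars5.Basic.degree_dvd_card θ
      rwa [show Cfsg.charDegree (θ : P → ℂ) = d by simp [Cfsg.charDegree, hdθ], hk] at this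
    obtain ⟨i, -, rfl⟩ := (Nat.dvd_prime_pow hq.out).1 hdd
    rcases Nat.eq_zero_or_pos i with rfl | hi
    · rw [hdθ, pow_zero, Nat.cast_one]
    exfalso
    obtain ⟨m, r, hr, hm, -, hdec⟩ := Clifford.Basic.exists_eq_nsmul_add hres θ
    obtain ⟨d', hd'⟩ := exists_degree hr
    have hm0 : m ≠ 0 := by
      rintro rfl
      exact hθ (hm.trans Nat.cast_zero)
    have h2 := congrFun hdec 1
    simp only [Function.comp_apply, Pi.add_apply, Pi.smul_apply, map_one] at h2
    rw [h1, hdθ, hd', nsmul_eq_mul] at h2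
    have h3 : q = m * q ^ i + d' := by exact_mod_cast h2
    have hge : q ≤ q ^ i := Nat.le_self_pow hi.ne' q
    have h4 : q ^ i ≤ m * q ^ i := Nat.le_mul_of_pos_left _ (Nat.pos_of_ne_zero hm0)
    have hm1 : m = 1 := by
      rcases Nat.lt_or_ge m 2 with h | h
      · omega
      · have := Nat.mul_le_mul_right (q ^ i) h
        have := hq.out.pos
        omega
    have hr0 : r = 0 := Clifford.Basic.eq_zero_of_apply_one_eq_zero hr (by
      rw [hd', show d' = 0 by omega, Nat.cast_zero])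
    rw [hm1, one_nsmul, hr0, add_zero] at hdec
    haveI := IsPGroup.center_nontrivial P.2
    obtain ⟨z, hz⟩ := exists_ne (1 : Subgroup.center P)
    obtain ⟨n, ρ, hρ, hchar⟩ := exists_rep χ
    have hfin : Module.finrank ℂ (Fin n → ℂ) = q := by
      have := congrFun hchar 1
      rw [Representation.char_one, h1] at this
      exact_mod_cast this
    obtain ⟨c, hc⟩ := Induced.Integral.scalar_of_norm_character_eq ρ
      (g := ((z : P) : G)) (by
        rw [congrFun hchar, show (χ : G → ℂ) ((z : P) : G) = (θ : P → ℂ) (z : P) from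
          congrFun hdec z, Chars82.PGroupChars.apply_center, norm_mul,
          Chars82.PGroupChars.norm_omegaZ, one_mul,
          ← congrFun hdec 1, Function.comp_apply, map_one, h1, hfin, Complex.norm_natCast])
    have hinj : Function.Injective ρ := by
      refine (MonoidHom.ker_eq_bot_iff ρ).1 ((Subgroup.eq_bot_iff_forall _).2 fun y hy => ?_)
      refine eq_one_of_value hna χ hne ?_
      rw [← hchar, Representation.character, (MonoidHom.mem_ker).1 hy, Representation.character,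
        map_one ρ]
    apply hz
    refine Subtype.ext (Subtype.ext ?_)
    rw [OneMemClass.coe_one, OneMemClass.coe_one, ← Subgroup.mem_bot,
      ← SimpleDegrees.center_eq_bot hna, Subgroup.mem_center_iff]
    intro y
    apply hinj
    rw [map_mul, map_mul, hc]
    ext v
    simp
  have hab : ∀ a b : P, a * b = b * a := by
    intro a b
    have h := eq_one_of_value hna χ hne (g := (((b * a)⁻¹ * (a * b) : P) : G)) (by
      have hexp := character_eq_finsum hres
      have e1 := congrFun hexp ((b * a)⁻¹ * (a * b))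
      have e2 := congrFun hexp 1
      rw [finsum_eq_sum_of_fintype, Finset.sum_apply] at e1 e2
      simp only [Function.comp_apply, Subgroup.subtype_apply, OneMemClass.coe_one] at e1 e2
      rw [e1, e2]
      refine Finset.sum_congr rfl fun θ _ => ?_
      simp only [Pi.smul_apply, smul_eq_mul]
      by_cases h0 : Cfsg.classInner ((χ : G → ℂ) ∘ (P : Subgroup G).subtype) θ = 0
      · exact (mul_eq_zero_of_left h0 _).trans (mul_eq_zero_of_left h0 _).symm
      congr 1
      have hθ1 := hlin θ h0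
      have hval := Linear.degOneHom_apply (isCharacter_irr θ) hθ1
      rw [← hval, ← hval, map_mul, map_inv, map_mul, map_mul, map_one,
        mul_comm (Linear.degOneHom (isCharacter_irr θ) hθ1 b), inv_mul_cancel])
    rw [OneMemClass.coe_eq_one, inv_mul_eq_one] at h
    exact h.symm
  have hle : (P : Subgroup G) ≤ Subgroup.centralizer ((P : Subgroup G) : Set G) := fun x hx y hy =>
    congrArg Subtype.val (hab ⟨y, hy⟩ ⟨x, hx⟩)
  set C := Subgroup.centralizer ((P : Subgroup G) : Set G) with hC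
  haveI : Fintype C := Fintype.ofFinite C
  have hzero : ∀ y : C, y ≠ 1 → (χ : G → ℂ) y = 0 := by
    intro y hy
    refine SimpleDegrees.apply_eq_zero_of_coprime hna (fun h => hy (Subtype.ext h)) χ hne ?_
    rw [hχ]
    refine hq.out.coprime_iff_not_dvd.2 fun hdvd => P.not_dvd_index (hdvd.trans
      (Subgroup.index_dvd_of_le fun x hx => Subgroup.mem_centralizer_singleton_iff.2
        (y.2 x hx)))
  obtain ⟨k, hk⟩ := exists_classInner_nat (isCharacter_comp C.subtype (isCharacter_irr χ))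
    (isCharacter_one (G := C))
  rw [Cfsg.classInner, Finset.sum_eq_single (1 : C)] at hk
  rotate_left
  · intro y _ hy
    rw [Function.comp_apply, Subgroup.subtype_apply, hzero y hy, zero_mul]
  · exact fun h => absurd (Finset.mem_univ _) h
  simp only [Function.comp_apply, map_one, Pi.one_apply, h1, mul_one] at hk
  rw [inv_mul_eq_iff_eq_mul₀ (Nat.cast_ne_zero.2 Nat.card_pos.ne')] at hk
  have hdvd : Nat.card C ∣ q := ⟨k, by exact_mod_cast hk⟩
  have hPC : Nat.card P ∣ Nat.card C := Subgroup.card_dvd_of_le hle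
  have hCq : Nat.card C = q := by
    rcases (Nat.dvd_prime hq.out).1 hdvd with h | h
    · rw [h] at hPC
      exact absurd (Nat.dvd_one.1 hPC) hPne
    · exact h
  rw [hCq] at hPC
  have hPq : Nat.card P = q := ((Nat.dvd_prime hq.out).1 hPC).resolve_left hPne
  exact ⟨(Subgroup.eq_of_le_of_card_ge hle (by rw [hCq, hPq])).symm, hPq⟩

open scoped Classical in
/-- A non-abelian simple group has a degree that is neither one nor a prime. -/
theorem contradiction (hna : ¬ ∀ a b : G, a * b = b * a)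
    (hdeg : ∀ χ : Cfsg.IrrCharacter G, Cfsg.charDegree (χ : G → ℂ) ≠ 1 →
      (Cfsg.charDegree (χ : G → ℂ)).Prime) : False := by
  haveI := Fintype.ofFinite G
  letI : Fintype (Cfsg.IrrCharacter G) := Fintype.ofFinite _
  -- the largest degree
  obtain ⟨χ₀, -, hmax⟩ := Finset.exists_max_image Finset.univ
    (fun χ : Cfsg.IrrCharacter G => Cfsg.charDegree (χ : G → ℂ)) ⟨oneChar G, Finset.mem_univ _⟩
  have hne1 : ∀ χ : Cfsg.IrrCharacter G, χ ≠ oneChar G → Cfsg.charDegree (χ : G → ℂ) ≠ 1 :=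
    fun χ h h' => h (degree_one_eq hna χ h')
  obtain ⟨q, hq0⟩ : ∃ q, Cfsg.charDegree (χ₀ : G → ℂ) = q := ⟨_, rfl⟩
  have hqp : q.Prime := by
    rw [← hq0]
    refine hdeg χ₀ fun h => hna fun a b => ?_
    by_contra hab
    have hnt : ∃ g : G, g ≠ 1 := ⟨a, by rintro rfl; simp at hab⟩
    obtain ⟨g, hg⟩ := hnt
    apply hg
    refine Complete.eq_one_of_forall_irr fun χ => ?_
    rw [degree_one_eq hna χ ?_]
    · simp [oneChar_apply]
    · exact le_antisymm (h ▸ hmax χ (Finset.mem_univ _)) (BlocksChars5.Basic.degree_pos χ)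
  haveI : Fact q.Prime := ⟨hqp⟩
  have hle : ∀ χ : Cfsg.IrrCharacter G, Cfsg.charDegree (χ : G → ℂ) ≤ q :=
    fun χ => hq0 ▸ hmax χ (Finset.mem_univ _)
  obtain ⟨P⟩ : Nonempty (Sylow q G) := inferInstance
  obtain ⟨hC, hPq⟩ := centralizer_sylow hna χ₀ hq0 P
  haveI : IsCyclic P := isCyclic_of_prime_card hPq
  obtain ⟨x', hx'⟩ := IsCyclic.exists_generator (α := P)
  set x : G := (x' : G) with hxdef
  have hxo : orderOf x = q := by
    rw [hxdef, Subgroup.orderOf_coe, orderOf_eq_card_of_forall_mem_zpowers hx', hPq]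
  have hxP : Subgroup.zpowers x = (P : Subgroup G) := by
    refine Subgroup.eq_of_le_of_card_ge (Subgroup.zpowers_le.2 x'.2) ?_
    rw [hPq, Nat.card_zpowers, hxo]
  have hCx : Nat.card (Subgroup.centralizer ({x} : Set G)) = q := by
    rw [show Subgroup.centralizer ({x} : Set G) = (P : Subgroup G) by
      rw [← hC, ← hxP, Subgroup.zpowers_eq_closure, Subgroup.centralizer_closure]]
    exact hPq
  have hcp : ∀ a : ZMod q, a ≠ 0 →
      Subgroup.centralizer ({pw x a} : Set G) = Subgroup.centralizer ({x} : Set G) := by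
    intro a ha
    refine Cfsg.Agent.Lib.GaloisMean.CoprimeSylow.centralizer_pow x ?_
    rw [hxo]
    exact Nat.Coprime.symm ((hqp.coprime_iff_not_dvd).2 fun h => ha (by
      rw [← ZMod.natCast_zmod_val a, (ZMod.natCast_eq_zero_iff _ _).2 h]))
  have hCa : ∀ a : ZMod q, a ≠ 0 →
      Nat.card (Subgroup.centralizer ({pw x a} : Set G)) = q := by
    intro a ha
    rw [hcp a ha, hCx]
  -- exponents realised by conjugation
  let H : Subgroup (ZMod q)ˣ :=
    { carrier := {u | IsConj x (pw x (u : ZMod q))}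
      one_mem' := by
        show IsConj x (pw x ((1 : (ZMod q)ˣ) : ZMod q))
        rw [Units.val_one, pw_one hxo]
      mul_mem' := fun {u v} hu hv => by
        show IsConj x (pw x ((u * v : (ZMod q)ˣ) : ZMod q))
        rw [mul_comm u v, Units.val_mul, pw_mul hxo]
        refine (show IsConj x (x ^ (u : ZMod q).val) from hu).trans ?_
        obtain ⟨c, hc⟩ := isConj_iff.1 hv
        exact isConj_iff.2 ⟨c, by rw [← conj_pow, hc]⟩
      inv_mem' := fun {u} hu => by
        show IsConj x (pw x ((u⁻¹ : (ZMod q)ˣ) : ZMod q))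
        obtain ⟨c, hc⟩ := isConj_iff.1 hu
        refine IsConj.symm ?_
        refine isConj_iff.2 ⟨c, ?_⟩
        rw [pw, ← conj_pow, hc, ← pw_mul hxo, ← Units.val_mul, mul_inv_cancel, Units.val_one,
          pw_one hxo] }
  have hconj : ∀ a b : (ZMod q)ˣ, IsConj (pw x (a : ZMod q)) (pw x (b : ZMod q)) ↔ a⁻¹ * b ∈ H := by
    intro a b
    constructor
    · intro h
      obtain ⟨c, hc⟩ := isConj_iff.1 h
      show IsConj x (pw x ((a⁻¹ * b : (ZMod q)ˣ) : ZMod q))
      refine isConj_iff.2 ⟨c, ?_⟩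
      have e1 : x = pw x (a : ZMod q) ^ ((a⁻¹ : (ZMod q)ˣ) : ZMod q).val := by
        rw [← pw_mul hxo, ← Units.val_mul, mul_inv_cancel, Units.val_one, pw_one hxo]
      conv_lhs => rw [e1]
      rw [← conj_pow, hc, ← pw_mul hxo, ← Units.val_mul, mul_comm]
    · intro h
      obtain ⟨c, hc⟩ := isConj_iff.1 (show IsConj x (pw x ((a⁻¹ * b : (ZMod q)ˣ) : ZMod q)) from h)
      refine isConj_iff.2 ⟨c, ?_⟩
      rw [pw, ← conj_pow, hc, ← pw_mul hxo, ← Units.val_mul]
      congr 2
      rw [mul_comm, mul_inv_cancel_left]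
  -- Burnside's transfer theorem
  have he : 1 < Fintype.card H := by
    by_contra hle1
    haveI : Subsingleton H := Fintype.card_le_one_iff_subsingleton.1 (not_lt.1 hle1)
    have hN : Subgroup.normalizer ((P : Subgroup G) : Set G) ≤
        Subgroup.centralizer ((P : Subgroup G) : Set G) := by
      intro n hn
      have hmem : n * x * n⁻¹ ∈ (P : Subgroup G) :=
        (Subgroup.mem_normalizer_iff.1 hn x).1 x'.2
      rw [← hxP] at hmem
      obtain ⟨k, hk⟩ := Submonoid.mem_powers_iff _ _ |>.1 (mem_powers_iff_mem_zpowers.2 hmem)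
      rw [pow_eq_pw hxo] at hk
      have hu : (k : ZMod q) ≠ 0 := by
        intro h
        rw [h, pw, ZMod.val_zero, pow_zero] at hk
        have : x = 1 := conj_eq_one_iff.1 hk.symm
        rw [this, orderOf_one] at hxo
        exact hqp.one_lt.ne hxo
      have h1 : (⟨Units.mk0 _ hu, isConj_iff.2 ⟨n, hk.symm⟩⟩ : H) = 1 := Subsingleton.elim _ _
      have h2 : (k : ZMod q) = 1 := congrArg (fun w : H => ((w : (ZMod q)ˣ) : ZMod q)) h1
      rw [h2, pw_one hxo] at hk
      rw [← hxP, Subgroup.zpowers_eq_closure, Subgroup.centralizer_closure,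
        Subgroup.mem_centralizer_singleton_iff]
      exact mul_inv_eq_iff_eq_mul.1 hk.symm
    have hcompl := MonoidHom.ker_transferSylow_isComplement' P hN
    rcases (MonoidHom.transferSylow P hN).normal_ker.eq_bot_or_eq_top with hk | hk
    · rw [hk, Subgroup.isComplement'_bot_left] at hcompl
      apply hna
      intro a b
      have hab : ∀ y : G, y ∈ Subgroup.zpowers x := fun y => by
        rw [hxP, hcompl]; exact Subgroup.mem_top y
      obtain ⟨i, rfl⟩ := Subgroup.mem_zpowers_iff.1 (hab a)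
      obtain ⟨j, rfl⟩ := Subgroup.mem_zpowers_iff.1 (hab b)
      exact zpow_mul_comm x i j
    · rw [hk, Subgroup.isComplement'_top_left] at hcompl
      rw [hcompl, Subgroup.card_bot] at hPq
      exact hqp.one_lt.ne hPq
  -- multiplicities
  choose m hm using fun χ : Cfsg.IrrCharacter G => exists_mult hxo (isCharacter_irr χ)
  have hx0 : pw x (0 : ZMod q) = 1 := by rw [pw, ZMod.val_zero, pow_zero]
  have hdsum : ∀ χ : Cfsg.IrrCharacter G, (Cfsg.charDegree (χ : G → ℂ)) = ∑ j, m χ j := by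
    intro χ
    have := value_zero (hm χ)
    rw [hx0, BlocksChars5.Basic.apply_one] at this
    exact_mod_cast this
  have hinvH : ∀ χ (h : H) (j : ZMod q), m χ ((h : (ZMod q)ˣ) * j) = m χ j := by
    intro χ h j
    refine mult_mul (hm χ) h (fun a => ?_) j
    obtain ⟨c, hc⟩ := isConj_iff.1 (show IsConj x (pw x ((h : (ZMod q)ˣ) : ZMod q)) from h.2)
    rw [mul_comm, pw_mul hxo, ← hc, conj_pow, BlocksChars5.Basic.conj_invariant, pw]
  -- some character has no trivial constituent
  obtain ⟨χ₁, hχ₁, hχ₁q, hm0⟩ : ∃ χ₁, χ₁ ≠ oneChar G ∧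
      Cfsg.charDegree (χ₁ : G → ℂ) ≠ q ∧ m χ₁ 0 = 0 := by
    by_contra hcon
    push Not at hcon
    have hsum : ∑ χ : Cfsg.IrrCharacter G, (Cfsg.charDegree (χ : G → ℂ) : ℂ) *
        ((q : ℂ) * m χ 0 - Cfsg.charDegree (χ : G → ℂ)) = 0 := by
      have : ∀ χ : Cfsg.IrrCharacter G, (Cfsg.charDegree (χ : G → ℂ) : ℂ) *
          ((q : ℂ) * m χ 0 - Cfsg.charDegree (χ : G → ℂ)) =
          ∑ a ∈ Finset.univ.erase (0 : ZMod q), (χ : G → ℂ) 1 * (χ : G → ℂ) (pw x a) := by
        intro χ
        rw [← Finset.mul_sum, Finset.sum_erase_eq_sub (Finset.mem_univ _), sum_value (hm χ), hx0,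
          BlocksChars5.Basic.apply_one]
      rw [Finset.sum_congr rfl fun χ _ => this χ, Finset.sum_comm]
      exact Finset.sum_eq_zero fun a ha => Induced.Burnside.sum_degree_mul_eq_zero
        (pw_ne_one hxo (Finset.ne_of_mem_erase ha))
    have hnn : ∀ χ : Cfsg.IrrCharacter G, χ ≠ oneChar G →
        (0 : ℤ) ≤ (Cfsg.charDegree (χ : G → ℂ) : ℤ) *
          ((q : ℤ) * m χ 0 - Cfsg.charDegree (χ : G → ℂ)) := by
      intro χ hχ
      by_cases hdq : Cfsg.charDegree (χ : G → ℂ) = q
      · have hv : ∀ a ∈ Finset.univ.erase (0 : ZMod q), (χ : G → ℂ) (pw x a) = 0 := by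
          intro a ha
          refine SimpleDegrees.apply_eq_zero_of_coprime hna
            (pw_ne_one hxo (Finset.ne_of_mem_erase ha)) χ hχ ?_
          rw [hdq]
          refine hqp.coprime_iff_not_dvd.2 fun hdvd => P.not_dvd_index (hdvd.trans ?_)
          refine Subgroup.index_dvd_of_le ?_
          rw [hcp a (Finset.ne_of_mem_erase ha), ← hxP, Subgroup.zpowers_le,
            Subgroup.mem_centralizer_singleton_iff]
        have hs := sum_value (hm χ)
        rw [← Finset.add_sum_erase _ _ (Finset.mem_univ (0 : ZMod q)), Finset.sum_eq_zero hv,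
          add_zero, hx0, BlocksChars5.Basic.apply_one, hdq] at hs
        have hs' : q = q * m χ 0 := by exact_mod_cast hs
        rw [hdq]
        have hs2 : (q : ℤ) = q * m χ 0 := by exact_mod_cast hs'
        rw [← hs2, sub_self, mul_zero]
      · have h1 : 1 ≤ m χ 0 := Nat.one_le_iff_ne_zero.2 (hcon χ hχ hdq)
        have h2 : (Cfsg.charDegree (χ : G → ℂ) : ℤ) ≤ q := by exact_mod_cast hle χ
        refine mul_nonneg (Int.natCast_nonneg _) ?_
        nlinarith
    have hsumZ : ∑ χ : Cfsg.IrrCharacter G, (Cfsg.charDegree (χ : G → ℂ) : ℤ) *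
        ((q : ℤ) * m χ 0 - Cfsg.charDegree (χ : G → ℂ)) = 0 := by exact_mod_cast hsum
    have hone : (1 : ℤ) ≤ (Cfsg.charDegree (oneChar G : G → ℂ) : ℤ) *
        ((q : ℤ) * m (oneChar G) 0 - Cfsg.charDegree (oneChar G : G → ℂ)) := by
      have h1 : Cfsg.charDegree (oneChar G : G → ℂ) = 1 := by simp [Cfsg.charDegree, oneChar_apply]
      have hs := sum_value (hm (oneChar G))
      simp only [oneChar_apply, Finset.sum_const, Finset.card_univ, ZMod.card, nsmul_one] at hs
      have hs' : q = q * m (oneChar G) 0 := by exact_mod_cast hs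
      have hs2 : m (oneChar G) 0 = 1 := by
        have := (Nat.mul_eq_left hqp.ne_zero).1 hs'.symm
        exact this
      rw [h1, hs2]
      have := hqp.two_le
      omega
    rw [← Finset.add_sum_erase _ _ (Finset.mem_univ (oneChar G))] at hsumZ
    have := Finset.sum_nonneg (s := Finset.univ.erase (oneChar G))
      fun χ hχ => hnn χ (Finset.ne_of_mem_erase hχ)
    omega
  -- its degree is the order of `H`
  obtain ⟨j₀, hj₀⟩ : ∃ j, m χ₁ j ≠ 0 := by
    by_contra hcon
    push Not at hcon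
    have := hdsum χ₁
    simp [hcon] at this
    exact (BlocksChars5.Basic.degree_pos χ₁).ne' this
  have hj0 : j₀ ≠ 0 := fun h => hj₀ (h ▸ hm0)
  haveI : Fintype ((ZMod q)ˣ ⧸ H) := Fintype.ofFinite _
  have hunits : Cfsg.charDegree (χ₁ : G → ℂ) =
      ∑ c : (ZMod q)ˣ ⧸ H, Fintype.card H * m χ₁ (c.out : (ZMod q)ˣ) := by
    have h1 : ∑ u : (ZMod q)ˣ, (m χ₁ u : ℂ) = (∑ a, (m χ₁ a : ℂ)) - m χ₁ 0 :=
      sum_units fun a => (m χ₁ a : ℂ)
    rw [hm0, Nat.cast_zero, sub_zero] at h1
    have h2 : ∑ u : (ZMod q)ˣ, m χ₁ u = ∑ a, m χ₁ a := by exact_mod_cast h1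
    rw [hdsum, ← h2, sum_coset H fun u : (ZMod q)ˣ => m χ₁ u]
    refine Finset.sum_congr rfl fun c _ => ?_
    refine (Finset.sum_congr rfl fun (h : H) _ => ?_).trans
      (show ∑ _h : H, m χ₁ (c.out : (ZMod q)ˣ) = Fintype.card H * m χ₁ (c.out : (ZMod q)ˣ) by
        rw [Finset.sum_const, Finset.card_univ, smul_eq_mul])
    rw [Units.val_mul, mul_comm, hinvH]
  rw [← Finset.mul_sum] at hunits
  have hd1 : Cfsg.charDegree (χ₁ : G → ℂ) = Fintype.card H := by
    rcases (Nat.dvd_prime (hdeg χ₁ (hne1 χ₁ hχ₁))).1 ⟨_, hunits⟩ with h | h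
    · omega
    · exact h.symm
  set t₀ : (ZMod q)ˣ := Units.mk0 j₀ hj0
  have hsum1 : ∑ c : (ZMod q)ˣ ⧸ H, m χ₁ (c.out : (ZMod q)ˣ) = 1 := by
    rw [hd1] at hunits
    have := (Nat.mul_eq_left (by omega : Fintype.card H ≠ 0)).1 hunits.symm
    exact this
  have hmout : ∀ u : (ZMod q)ˣ, m χ₁ u = m χ₁ ((QuotientGroup.mk u : (ZMod q)ˣ ⧸ H).out : (ZMod q)ˣ) := by
    intro u
    obtain ⟨h, hh⟩ := QuotientGroup.mk_out_eq_mul H u
    rw [hh, Units.val_mul, mul_comm, hinvH]
  have hind : ∀ u : (ZMod q)ˣ, m χ₁ u =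
      if (QuotientGroup.mk u : (ZMod q)ˣ ⧸ H) = QuotientGroup.mk t₀ then 1 else 0 := by
    intro u
    rw [hmout u]
    have hpos : 0 < m χ₁ ((QuotientGroup.mk t₀ : (ZMod q)ˣ ⧸ H).out : (ZMod q)ˣ) := by
      rw [← hmout]
      exact Nat.pos_of_ne_zero hj₀
    rw [← Finset.add_sum_erase _ _ (Finset.mem_univ (QuotientGroup.mk t₀ : (ZMod q)ˣ ⧸ H))] at hsum1
    split_ifs with hu
    · rw [hu]; omega
    · have : m χ₁ ((QuotientGroup.mk u : (ZMod q)ˣ ⧸ H).out : (ZMod q)ˣ) ≤
          ∑ c ∈ Finset.univ.erase (QuotientGroup.mk t₀ : (ZMod q)ˣ ⧸ H),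
            m χ₁ (c.out : (ZMod q)ˣ) :=
        Finset.single_le_sum (fun c _ => Nat.zero_le (m χ₁ (c.out : (ZMod q)ˣ)))
          (Finset.mem_erase.2 ⟨hu, Finset.mem_univ _⟩)
      omega
  have hf1 : ∀ a : ZMod q, (χ₁ : G → ℂ) (pw x a) = eta H t₀ a := by
    intro a
    rw [hm, ← Finset.add_sum_erase _ _ (Finset.mem_univ (0 : ZMod q)), hm0, Nat.cast_zero,
      zero_mul, zero_add, Finset.sum_erase_eq_sub (Finset.mem_univ _),
      ← sum_units fun j => (m χ₁ j : ℂ) * ψ q (a * j),
      sum_coset H fun u : (ZMod q)ˣ => (m χ₁ u : ℂ) * ψ q (a * u),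
      Finset.sum_eq_single (QuotientGroup.mk t₀ : (ZMod q)ˣ ⧸ H)]
    · obtain ⟨h, hh⟩ := QuotientGroup.mk_out_eq_mul H t₀
      rw [hh, eta]
      refine Fintype.sum_equiv (Equiv.mulLeft h) _ _ fun k => ?_
      rw [hind, if_pos (by rw [mul_assoc, QuotientGroup.mk_mul_of_mem _
        (H.mul_mem h.2 k.2)]), Nat.cast_one, one_mul, Equiv.coe_mulLeft, Subgroup.coe_mul, mul_assoc]
    · intro c _ hc
      refine Finset.sum_eq_zero fun k _ => ?_
      rw [hind, if_neg (by rw [QuotientGroup.mk_mul_of_mem _ k.2, QuotientGroup.out_eq']; exact hc),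
        Nat.cast_zero, zero_mul]
    · exact fun h => absurd (Finset.mem_univ _) h
  -- Galois conjugates
  have hqG : q ∣ Nat.card G := hPq ▸ Subgroup.card_subgroup_dvd_card _
  haveI : NeZero (Nat.card G) := ⟨Nat.card_pos.ne'⟩
  have hgal : ∀ c : (ZMod q)ˣ ⧸ H, ∃ φ : Cfsg.IrrCharacter G,
      (φ : G → ℂ) 1 = (χ₁ : G → ℂ) 1 ∧ ∀ a : ZMod q, (φ : G → ℂ) (pw x a) = eta H c.out a := by
    intro c
    obtain ⟨w, hw⟩ := ZMod.unitsMap_surjective hqG (t₀⁻¹ * c.out)
    have hk : ((w : ZMod (Nat.card G)).val).Coprime (Nat.card G) :=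
      ZMod.val_coe_unit_coprime w
    refine ⟨⟨fun g => (χ₁ : G → ℂ) (g ^ (w : ZMod (Nat.card G)).val),
      BC78.PowChar.isIrrCharacter_pow χ₁.2 hk⟩, by simp, fun a => ?_⟩
    show (χ₁ : G → ℂ) (pw x a ^ (w : ZMod (Nat.card G)).val) = _
    have h2 : ((w : ZMod (Nat.card G)).val : ZMod q) = ((t₀⁻¹ * c.out : (ZMod q)ˣ) : ZMod q) := by
      rw [← hw, ZMod.unitsMap_val, ZMod.cast_eq_val]
    rw [pw, ← pow_mul, pow_eq_pw hxo, Nat.cast_mul, ZMod.natCast_zmod_val, h2, hf1, eta, eta]
    refine Finset.sum_congr rfl fun h _ => congrArg (ψ q) ?_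
    rw [mul_assoc, ← Units.val_mul]
    congr 2
    rw [← mul_assoc, mul_comm t₀⁻¹, inv_mul_cancel_right]
  choose φ hφ1 hφ using hgal
  have hφinj : Function.Injective φ := by
    intro c c' hcc
    by_contra hne
    have hdeg' : ∀ d : (ZMod q)ˣ ⧸ H, ∀ a, (φ d : G → ℂ) (pw x a) =
        ∑ j, ((if ∃ k : H, j = ((d.out * (k : (ZMod q)ˣ) : (ZMod q)ˣ) : ZMod q) then 1 else 0 : ℕ) : ℂ)
          * ψ q (a * j) := by
      intro d a
      rw [hφ d, eta]
      have himg : (Finset.univ.filter fun j : ZMod q =>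
          ∃ k : H, j = ((d.out * (k : (ZMod q)ˣ) : (ZMod q)ˣ) : ZMod q)) =
          Finset.univ.image fun k : H => ((d.out * (k : (ZMod q)ˣ) : (ZMod q)ˣ) : ZMod q) := by
        ext j
        simp [eq_comm]
      simp only [Nat.cast_ite, Nat.cast_one, Nat.cast_zero, ite_mul, one_mul, zero_mul]
      rw [← Finset.sum_filter, himg, Finset.sum_image]
      exact fun k _ k' _ e => Subtype.ext (mul_left_cancel (Units.ext e))
    have e := mult_eq (hdeg' c) ((c.out : (ZMod q)ˣ) : ZMod q)
    have e' := mult_eq (hdeg' c') ((c.out : (ZMod q)ˣ) : ZMod q)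
    rw [hcc, e'] at e
    by_cases hex : ∃ k : H, ((c.out : (ZMod q)ˣ) : ZMod q) =
        ((c'.out * (k : (ZMod q)ˣ) : (ZMod q)ˣ) : ZMod q)
    · obtain ⟨k, hk⟩ := hex
      apply hne
      rw [← QuotientGroup.out_eq' c, ← QuotientGroup.out_eq' c', Units.ext hk,
        QuotientGroup.mk_mul_of_mem _ k.2]
    · rw [if_neg hex, if_pos ⟨1, by simp⟩] at e
      simp at e
      exact hqp.ne_zero (Nat.cast_eq_zero.1 e.symm)
  set E : Finset (Cfsg.IrrCharacter G) := Finset.univ.image φ with hE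
  have hEsum : ∀ F : Cfsg.IrrCharacter G → ℂ, ∑ χ ∈ E, F χ = ∑ c, F (φ c) := fun F =>
    Finset.sum_image hφinj.injOn
  -- the others are constant on the non-trivial elements
  have hothers : ∀ a b : (ZMod q)ˣ, ∑ χ ∈ Eᶜ, (χ : G → ℂ) (pw x (a : ZMod q)) *
      conj ((χ : G → ℂ) (pw x (b : ZMod q))) = (Fintype.card H : ℂ) := by
    intro a b
    have h2 := BlocksChars5.Basic.second_orthogonality (pw x (a : ZMod q)) (pw x (b : ZMod q))
    rw [hCa _ a.ne_zero, if_congr (hconj a b) rfl rfl] at h2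
    rw [← Finset.sum_add_sum_compl E, hEsum] at h2
    simp only [hφ, sum_eta_mul_conj] at h2
    linear_combination h2
  have hconst : ∀ χ ∈ Eᶜ, ∀ a : (ZMod q)ˣ, (χ : G → ℂ) (pw x (a : ZMod q)) = (χ : G → ℂ) x := by
    intro χ hχ a
    have h : ∑ χ ∈ Eᶜ, ((χ : G → ℂ) (pw x (a : ZMod q)) - (χ : G → ℂ) x) *
        conj ((χ : G → ℂ) (pw x (a : ZMod q)) - (χ : G → ℂ) x) = 0 := by
      have h1 := hothers a a
      have h2 := hothers a 1
      have h3 := hothers 1 a
      have h4 := hothers 1 1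
      rw [Units.val_one, pw_one hxo] at h2 h3 h4
      simp only [map_sub, mul_sub, sub_mul, Finset.sum_sub_distrib]
      linear_combination h1 - h2 - h3 + h4
    simp only [Complex.mul_conj] at h
    have h' : ∑ χ ∈ Eᶜ, Complex.normSq ((χ : G → ℂ) (pw x (a : ZMod q)) - (χ : G → ℂ) x) = 0 := by
      exact_mod_cast h
    exact sub_eq_zero.1 (Complex.normSq_eq_zero.1
      ((Finset.sum_eq_zero_iff_of_nonneg fun i _ => Complex.normSq_nonneg _).1 h' χ hχ))
  have honeE : oneChar G ∈ Eᶜ := by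
    rw [Finset.mem_compl, hE, Finset.mem_image]
    rintro ⟨c, -, hc⟩
    have := hφ1 c
    rw [hc, oneChar_apply, BlocksChars5.Basic.apply_one] at this
    exact hne1 χ₁ hχ₁ (by exact_mod_cast this.symm)
  -- the other non-trivial characters contribute non-positively
  have hneg : ∀ χ ∈ Eᶜ, χ ≠ oneChar G → ∃ z : ℤ, z ≤ 0 ∧
      (χ : G → ℂ) 1 * (χ : G → ℂ) x = (z : ℂ) := by
    intro χ hχ hχ1
    have hmeq : ∀ u : (ZMod q)ˣ, m χ u = m χ 1 := by
      intro u
      have h := mult_mul (hm χ) u (fun a => by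
        by_cases ha : a = 0
        · rw [ha, zero_mul]
        · exact (hconst χ hχ (Units.mk0 a ha * u)).trans
            (hconst χ hχ (Units.mk0 a ha)).symm) 1
      rw [mul_one] at h
      exact h
    have hd : Cfsg.charDegree (χ : G → ℂ) = m χ 0 + (q - 1) * m χ 1 := by
      rw [hdsum, ← Finset.add_sum_erase _ _ (Finset.mem_univ (0 : ZMod q))]
      congr 1
      rw [Finset.sum_congr rfl fun j hj => show m χ j = m χ 1 from
        hmeq (Units.mk0 j (Finset.ne_of_mem_erase hj)), Finset.sum_const,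
        Finset.card_erase_of_mem (Finset.mem_univ _), Finset.card_univ, ZMod.card, smul_eq_mul]
    have hval : (χ : G → ℂ) x = (m χ 0 : ℂ) - m χ 1 := by
      have h := hm χ 1
      rw [pw_one hxo] at h
      rw [h, ← Finset.add_sum_erase _ _ (Finset.mem_univ (0 : ZMod q)), one_mul,
        AddChar.map_zero_eq_one, mul_one, sub_eq_add_neg]
      congr 1
      rw [Finset.sum_congr rfl fun j hj => show (m χ j : ℂ) * ψ q (1 * j) = (m χ 1 : ℂ) * ψ q j by
        rw [one_mul, show m χ j = m χ 1 from hmeq (Units.mk0 j (Finset.ne_of_mem_erase hj))],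
        ← Finset.mul_sum, Finset.sum_erase_eq_sub (Finset.mem_univ _), AddChar.map_zero_eq_one]
      have hs := sum_psi (q := q) 1
      simp only [mul_one, if_neg (one_ne_zero : (1 : ZMod q) ≠ 0)] at hs
      rw [hs, zero_sub, mul_neg, mul_one]
    have hk1 : m χ 1 ≠ 0 := by
      intro h0
      have hx1 : x ≠ 1 := fun h => by
        rw [h, orderOf_one] at hxo
        exact hqp.one_lt.ne hxo
      refine hx1 (eq_one_of_value hna χ hχ1 ?_)
      rw [hval, BlocksChars5.Basic.apply_one, hd, h0, mul_zero, add_zero, Nat.cast_zero, sub_zero]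
    have hk : m χ 0 ≤ m χ 1 := by
      have h1 := hle χ
      rw [hd] at h1
      have : (q - 1) * 1 ≤ (q - 1) * m χ 1 := Nat.mul_le_mul_left _ (Nat.pos_of_ne_zero hk1)
      omega
    refine ⟨(Cfsg.charDegree (χ : G → ℂ) : ℤ) * ((m χ 0 : ℤ) - m χ 1),
      mul_nonpos_of_nonneg_of_nonpos (Int.natCast_nonneg _) (by omega), ?_⟩
    rw [hval, BlocksChars5.Basic.apply_one]
    push_cast
    rfl
  choose! z hz0 hz using hneg
  have htot := Induced.Burnside.sum_degree_mul_eq_zero (G := G) (g := x) (fun h => by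
    rw [h, orderOf_one] at hxo
    exact hqp.one_lt.ne hxo)
  rw [← Finset.sum_add_sum_compl E, hEsum, ← Finset.add_sum_erase _ _ honeE,
    oneChar_apply, oneChar_apply, mul_one,
    Finset.sum_congr rfl fun χ hχ => hz χ (Finset.mem_of_mem_erase hχ) (Finset.ne_of_mem_erase hχ)]
    at htot
  have heta : ∑ c, (φ c : G → ℂ) 1 * (φ c : G → ℂ) x = -(Fintype.card H : ℂ) := by
    have hpx : ∀ c, (φ c : G → ℂ) x = eta H c.out 1 := fun c => by rw [← hφ c, pw_one hxo]
    simp only [hφ1, hpx, ← Finset.mul_sum]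
    rw [sum_eta H one_ne_zero, BlocksChars5.Basic.apply_one, hd1, mul_neg, mul_one]
  rw [heta, ← Int.cast_sum] at htot
  have htot' : -(Fintype.card H : ℤ) +
      (1 + ∑ χ ∈ Eᶜ.erase (oneChar G), z χ) = 0 := by exact_mod_cast htot
  have := Finset.sum_nonpos fun χ hχ => hz0 χ (Finset.mem_of_mem_erase (s := Eᶜ) hχ)
    (Finset.ne_of_mem_erase hχ)
  omega

end Cfsg.Agent.Lib.PrimeDegrees.Simple
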