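import Cfsg.Agent.Lib.PrimeDegrees.Simple
import Cfsg.Agent.Lib.Clifford.Basic
import Cfsg.Agent.Lib.Induced.Basic
import Cfsg.Agent.Lib.Induced.Character

/-!
# A group all of whose non-linear degrees are prime is solvable
-/

namespace Cfsg.Agent.Lib.PrimeDegrees.Solvable

open Cfsg.Agent.Lib.Characters Cfsg.Agent.Lib.Characters.Basic
open Cfsg.Agent.Lib.BlocksChars5

universe u

/-- Every irreducible character of a subgroup lies under one of the group. -/
theorem exists_above {G : Type u} [Group G] [Fintype G] (N : Subgroup G) [Fintype N]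
    (θ : Cfsg.IrrCharacter N) :
    ∃ χ : Cfsg.IrrCharacter G, Cfsg.classInner (fun n : N => (χ : G → ℂ) n) θ ≠ 0 := by
  obtain ⟨χ, hχ⟩ := Clifford.Basic.exists_constituent
    (Induced.Character.isCharacter_indFun N (isCharacter_irr θ)) (fun h => by
      have := congrFun h 1
      rw [Induced.Basic.indFun_one] at this
      exact mul_ne_zero (Nat.cast_ne_zero.2 Subgroup.index_ne_zero_of_finite)
        (apply_one_ne_zero θ) this)
  refine ⟨χ, Clifford.Basic.classInner_ne_zero_symm ?_⟩
  rwa [Induced.Basic.frobenius_reciprocity N _ (isClassFunction_irr χ)] at hχ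

/-- A degree of a normal subgroup divides a degree of the group. -/
theorem degree_dvd_above {G : Type u} [Group G] [Finite G] (N : Subgroup G) [N.Normal]
    (θ : Cfsg.IrrCharacter N) :
    ∃ χ : Cfsg.IrrCharacter G, Cfsg.charDegree (θ : N → ℂ) ∣ Cfsg.charDegree (χ : G → ℂ) := by
  haveI := Fintype.ofFinite G
  haveI := Fintype.ofFinite N
  obtain ⟨χ, hχ⟩ := exists_above N θ
  refine ⟨χ, ?_⟩
  obtain ⟨e, he⟩ := exists_classInner_nat (isCharacter_comp N.subtype (isCharacter_irr χ))
    (isCharacter_irr θ)
  have h := Clifford.Basic.clifford_degree N χ.2 θ hχ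
  rw [show (fun n : N => (χ : G → ℂ) n) = (χ : G → ℂ) ∘ N.subtype from rfl, he,
    BlocksChars5.Basic.apply_one, BlocksChars5.Basic.apply_one, ← Nat.cast_mul, ← Nat.cast_mul] at h
  rw [Nat.cast_injective h]
  exact dvd_mul_left _ _

theorem isSolvable : ∀ (n : ℕ) (G : Type u) [Group G] [Finite G], Nat.card G ≤ n →
    (∀ χ : Cfsg.IrrCharacter G, Cfsg.charDegree (χ : G → ℂ) ≠ 1 →
      (Cfsg.charDegree (χ : G → ℂ)).Prime) → Group.IsSolvable G := by
  intro n
  induction n with
  | zero =>
    intro G _ _ hcard
    exact absurd hcard (not_le.2 Nat.card_pos)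
  | succ n ih =>
    intro G _ _ hcard hdeg
    by_cases hN : ∃ N : Subgroup G, N.Normal ∧ N ≠ ⊥ ∧ N ≠ ⊤
    · obtain ⟨N, hNn, hNb, hNt⟩ := hN
      have h1 : 1 < Nat.card N := by
        rw [Finite.one_lt_card_iff_nontrivial]
        exact N.nontrivial_iff_ne_bot.2 hNb
      have h2 : 1 < N.index := by
        have h0 : N.index ≠ 0 := Subgroup.index_ne_zero_of_finite
        have h1' : N.index ≠ 1 := fun h => hNt (Subgroup.index_eq_one.1 h)
        omega
      have h3 := N.card_mul_index
      have hNlt : Nat.card N < Nat.card G := by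
        rw [← h3]; exact lt_mul_of_one_lt_right (by omega) h2
      have hQlt : Nat.card (G ⧸ N) < Nat.card G := by
        rw [← h3, ← Subgroup.index_eq_card]; exact lt_mul_of_one_lt_left (by omega) h1
      haveI : Group.IsSolvable N := ih N (by omega) fun θ hθ => by
        obtain ⟨χ, hχ⟩ := degree_dvd_above N θ
        by_cases hlin : Cfsg.charDegree (χ : G → ℂ) = 1
        · exact absurd (Nat.dvd_one.1 (hlin ▸ hχ)) hθ
        · rw [((Nat.dvd_prime (hdeg χ hlin)).1 hχ).resolve_left hθ]
          exact hdeg χ hlin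
      haveI : Group.IsSolvable (G ⧸ N) := ih (G ⧸ N) (by omega) fun φ hφ => by
        have he : Cfsg.charDegree ((φ : G ⧸ N → ℂ) ∘ QuotientGroup.mk' N) =
            Cfsg.charDegree (φ : G ⧸ N → ℂ) := by
          simp [Cfsg.charDegree]
        have := hdeg ⟨_, isIrrCharacter_comp (QuotientGroup.mk' N)
          (QuotientGroup.mk'_surjective N) φ.2⟩ (by rw [he]; exact hφ)
        rwa [he] at this
      exact solvable_of_ker_le_range N.subtype (QuotientGroup.mk' N)
        (by rw [QuotientGroup.ker_mk', N.range_subtype])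
    · by_cases hc : ∀ a b : G, a * b = b * a
      · exact Group.isSolvable_of_comm hc
      · exfalso
        haveI : Nontrivial G := by
          by_contra h
          haveI := not_nontrivial_iff_subsingleton.1 h
          exact hc fun a b => Subsingleton.elim _ _
        haveI : IsSimpleGroup G := ⟨fun H hH => by
          by_contra h
          push Not at h
          exact hN ⟨H, hH, h.1, h.2⟩⟩
        exact Simple.contradiction hc hdeg

end Cfsg.Agent.Lib.PrimeDegrees.Solvable
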