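import Cfsg.Agent.Lib.Clifford.Extension
import Cfsg.Agent.Lib.BlocksChars5.Restrict
import Cfsg.Agent.Lib.Transfer.PResidual
import Mathlib.GroupTheory.PGroup

/-!
# The order of the `p`-residual modulo `p`

`|O^p(G)| ≡ ∑ χ(1)²`, the sum over the irreducible characters whose degree and determinantal
order are prime to `p`.
-/

namespace Cfsg.Agent.Lib.PrimeDegrees.Residual

open Cfsg.Agent.Lib Cfsg.Agent.Lib.Characters.Basic Cfsg.Agent.Lib.Clifford.Basic
open Cfsg.Agent.Lib.Transfer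

universe u v

/-- An invariant function has the same sum over a set and over its fixed points modulo `p`. -/
theorem sum_modEq_fixed {p : ℕ} [Fact p.Prime] {P : Type u} [Group P] [Finite P]
    (hP : IsPGroup p P) {α : Type v} [Fintype α] [DecidableEq α] [MulAction P α] (f : α → ℕ)
    (hf : ∀ (a : P) (x : α), f (a • x) = f x) [DecidablePred (fun x : α => ∀ a : P, a • x = x)] :
    ∑ x, f x ≡ ∑ x ∈ Finset.univ.filter (fun x => ∀ a : P, a • x = x), f x [MOD p] := by
  classical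
  rw [← Finset.sum_fiberwise_of_maps_to (s := Finset.univ) (t := Finset.univ.image f) (g := f)
      (fun x _ => Finset.mem_image_of_mem f (Finset.mem_univ x)),
    ← Finset.sum_fiberwise_of_maps_to (s := Finset.univ.filter fun x => ∀ a : P, a • x = x)
      (t := Finset.univ.image f) (g := f)
      (fun x _ => Finset.mem_image_of_mem f (Finset.mem_univ x))]
  refine Nat.ModEq.sum fun c _ => ?_
  rw [Finset.sum_congr rfl fun x hx => (Finset.mem_filter.1 hx).2, Finset.sum_const, smul_eq_mul,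
    Finset.sum_congr rfl fun x hx => (Finset.mem_filter.1 hx).2, Finset.sum_const, smul_eq_mul]
  refine Nat.ModEq.mul_right _ ?_
  let β := {x : α // f x = c}
  letI : MulAction P β :=
    { smul := fun a x => ⟨a • x.1, (hf a x.1).trans x.2⟩
      one_smul := fun x => Subtype.ext (one_smul P x.1)
      mul_smul := fun a b x => Subtype.ext (mul_smul a b x.1) }
  have h := hP.card_modEq_card_fixedPoints β
  have e1 : Nat.card β = (Finset.univ.filter fun x => f x = c).card := by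
    rw [Nat.card_eq_fintype_card, Fintype.card_subtype]
  have e2 : Nat.card (MulAction.fixedPoints P β) =
      ((Finset.univ.filter fun x => ∀ a : P, a • x = x).filter fun x => f x = c).card := by
    rw [Finset.filter_filter, ← Fintype.card_subtype, ← Nat.card_eq_fintype_card]
    exact Nat.card_congr
      { toFun := fun y => ⟨y.1.1, fun a => congrArg Subtype.val (y.2 a), y.1.2⟩
        invFun := fun x => ⟨⟨x.1, x.2.2⟩, fun a => Subtype.ext (x.2.1 a)⟩
        left_inv := fun _ => rfl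
        right_inv := fun _ => rfl }
  rwa [e1, e2] at h

variable {G : Type u} [Group G] [Finite G] {p : ℕ} [hp : Fact p.Prime]
variable (K : Subgroup G) [hK : K.Normal]

omit hK in
/-- Linear characters of a group without `p`-quotient have order prime to `p`. -/
theorem not_dvd_orderOf (hres : Cfsg.pResidual p K = ⊤) (μ : K →* ℂˣ) : ¬ p ∣ orderOf μ := by
  set m := (Nat.card K) / p ^ (Nat.card K).factorization p with hm
  intro hdvd
  have hpm : ¬ p ∣ m := Nat.not_dvd_ordCompl hp.out Nat.card_pos.ne'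
  refine hpm (hdvd.trans (orderOf_dvd_of_pow_eq_one ?_))
  refine MonoidHom.ext fun k => ?_
  have hle : Cfsg.pResidual p K ≤ (μ ^ m).ker := PResidual.pResidual_le_iff.2 fun g hg => by
    rw [MonoidHom.mem_ker, MonoidHom.pow_apply, ← map_pow, orderOf_dvd_iff_pow_eq_one.1 ?_, map_one]
    refine Nat.Coprime.dvd_of_dvd_mul_left
      (hg.pow_right ((Nat.card K).factorization p)) ?_
    rw [Nat.ordProj_mul_ordCompl_eq_self]
    exact orderOf_dvd_natCard g
  exact MonoidHom.mem_ker.1 (hle (hres ▸ Subgroup.mem_top k))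

/-- An invariant linear character of order prime to `p` extends to a group over which `K` has
`p`-power index, with the same order. -/
theorem exists_extend (P : Sylow p G) (hKP : ∀ g : G, ∃ k ∈ K, ∃ a ∈ P, g = k * a)
    (μ : K →* ℂˣ) (hμ : ¬ p ∣ orderOf μ)
    (hinv : ∀ (g : G) (k : K), μ ⟨g * k * g⁻¹, hK.conj_mem k k.2 g⟩ = μ k) :
    ∃ lam : G →* ℂˣ, (∀ k : K, lam k = μ k) ∧ ¬ p ∣ orderOf lam := by
  have hint : ∀ k : K, (k : G) ∈ P → μ k = 1 := by
    intro k hk
    obtain ⟨n, hn⟩ := P.2 ⟨k, hk⟩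
    have hkn : k ^ p ^ n = 1 := Subtype.ext (congrArg Subtype.val hn :)
    have h1 : μ k ^ p ^ n = 1 := by rw [← map_pow, hkn, map_one]
    have h2 : μ k ^ orderOf μ = 1 := by
      rw [← MonoidHom.pow_apply, pow_orderOf_eq_one, MonoidHom.one_apply]
    have h3 := pow_gcd_eq_one.2 ⟨h1, h2⟩
    rwa [Nat.Coprime.gcd_eq_one ((hp.out.coprime_iff_not_dvd.2 hμ).pow_left n), pow_one] at h3
  choose k hk a ha hg using hKP
  have hwell : ∀ (k₁ : K) (a₁ : G) (_ : a₁ ∈ P) (g : G), g = k₁ * a₁ →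
      μ ⟨k g, hk g⟩ = μ k₁ := by
    intro k₁ a₁ ha₁ g hg₁
    have h1 := hint (⟨k g, hk g⟩⁻¹ * k₁) (by
      show (k g)⁻¹ * (k₁ : G) ∈ P
      have : (k g)⁻¹ * (k₁ : G) = a g * a₁⁻¹ := by
        rw [inv_mul_eq_iff_eq_mul, ← mul_assoc, ← hg g, hg₁, mul_inv_cancel_right]
      rw [this]
      exact P.mul_mem (ha g) (P.inv_mem ha₁))
    rwa [map_mul, map_inv, inv_mul_eq_one] at h1
  refine ⟨MonoidHom.mk' (fun g => μ ⟨k g, hk g⟩) fun g g' => ?_,
    fun k₁ => hwell k₁ 1 P.one_mem _ (mul_one _).symm, ?_⟩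
  · rw [hwell (⟨k g, hk g⟩ * ⟨a g * k g' * (a g)⁻¹, hK.conj_mem _ (hk g') _⟩) (a g * a g')
      (P.mul_mem (ha g) (ha g')) (g * g'), map_mul, hinv (a g) ⟨k g', hk g'⟩]
    conv_lhs => rw [hg g, hg g']
    simp only [Subgroup.coe_mul]
    group
  · intro hdvd
    refine hμ (hdvd.trans (orderOf_dvd_of_pow_eq_one (MonoidHom.ext fun g => ?_)))
    show μ ⟨k g, hk g⟩ ^ orderOf μ = 1
    rw [← MonoidHom.pow_apply, pow_orderOf_eq_one, MonoidHom.one_apply]

/-- The main congruence. -/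
theorem card_modEq [Fintype (Cfsg.IrrCharacter G)] {n : ℕ} (hidx : K.index = p ^ n)
    (hres : Cfsg.pResidual p K = ⊤) (P : Sylow p G)
    (hKP : ∀ g : G, ∃ k ∈ K, ∃ a ∈ P, g = k * a)
    [DecidablePred (fun χ : Cfsg.IrrCharacter G =>
      ¬ p ∣ Cfsg.charDegree (χ : G → ℂ) ∧ ¬ p ∣ Cfsg.detOrder (χ : G → ℂ))] :
    Nat.card K ≡ ∑ χ ∈ Finset.univ.filter (fun χ : Cfsg.IrrCharacter G =>
      ¬ p ∣ Cfsg.charDegree (χ : G → ℂ) ∧ ¬ p ∣ Cfsg.detOrder (χ : G → ℂ)),
        Cfsg.charDegree (χ : G → ℂ) ^ 2 [MOD p] := by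
  classical
  haveI := Fintype.ofFinite G
  haveI := Fintype.ofFinite K
  letI : Fintype (Cfsg.IrrCharacter K) := Fintype.ofFinite _
  letI : MulAction P (Cfsg.IrrCharacter K) :=
    { smul := fun a θ => ⟨conjC K ((a : G))⁻¹ θ, isIrrCharacter_conjC K _ θ.2⟩
      one_smul := fun θ => Subtype.ext (by
        show conjC K (((1 : P) : G))⁻¹ (θ : K → ℂ) = _
        rw [OneMemClass.coe_one, inv_one, conjC_one])
      mul_smul := fun a b θ => Subtype.ext (by
        show conjC K (((a * b : P) : G))⁻¹ (θ : K → ℂ) = conjC K (a : G)⁻¹ (conjC K (b : G)⁻¹ θ)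
        rw [Subgroup.coe_mul, mul_inv_rev, conjC_mul]) }
  have hfixed : ∀ θ : Cfsg.IrrCharacter K, (∀ a : P, a • θ = θ) →
      ∀ g : G, conjC K g θ = (θ : K → ℂ) := by
    intro θ h g
    obtain ⟨k, hk, a, ha, rfl⟩ := hKP g
    rw [conjC_mul, conjC_of_mem K (isClassFunction_irr θ) hk]
    have := congrArg Subtype.val (h (⟨a, ha⟩ : P)⁻¹)
    change conjC K ((((⟨a, ha⟩ : P)⁻¹ : P) : G))⁻¹ (θ : K → ℂ) = _ at this
    rwa [InvMemClass.coe_inv, inv_inv] at this
  have hdeg : ∀ (a : P) (θ : Cfsg.IrrCharacter K),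
      Cfsg.charDegree ((a • θ : Cfsg.IrrCharacter K) : K → ℂ) ^ 2 =
        Cfsg.charDegree (θ : K → ℂ) ^ 2 := by
    intro a θ
    show Cfsg.charDegree (conjC K (a : G)⁻¹ (θ : K → ℂ)) ^ 2 = _
    rw [BlocksChars5.Basic.charDegree_congr (f := conjC K (a : G)⁻¹ (θ : K → ℂ))
      (f' := (θ : K → ℂ)) (by simp [conjC]; rfl)]
  have h1 := sum_modEq_fixed P.2 (fun θ : Cfsg.IrrCharacter K =>
    Cfsg.charDegree (θ : K → ℂ) ^ 2) hdeg
  have hsq : ∑ θ : Cfsg.IrrCharacter K, Cfsg.charDegree (θ : K → ℂ) ^ 2 = Nat.card K := by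
    have h := Characters.Complete.finsum_degree_sq (G := K)
    rw [finsum_eq_sum_of_fintype] at h
    simp only [BlocksChars5.Basic.apply_one] at h
    exact_mod_cast h
  rw [hsq] at h1
  refine h1.trans ?_
  rw [← Finset.sum_filter_add_sum_filter_not _ (fun θ : Cfsg.IrrCharacter K =>
    p ∣ Cfsg.charDegree (θ : K → ℂ)), Finset.filter_filter, Finset.filter_filter]
  have hzero : ∑ θ ∈ Finset.univ.filter (fun θ : Cfsg.IrrCharacter K =>
      (∀ a : P, a • θ = θ) ∧ p ∣ Cfsg.charDegree (θ : K → ℂ)),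
      Cfsg.charDegree (θ : K → ℂ) ^ 2 ≡ 0 [MOD p] :=
    Nat.modEq_zero_iff_dvd.2 (Finset.dvd_sum fun θ hθ =>
      dvd_pow (Finset.mem_filter.1 hθ).2.2 two_ne_zero)
  refine (hzero.add_right _).trans ?_
  rw [zero_add]
  refine congrArg (· % p) ?_
  have hrestr : ∀ χ : Cfsg.IrrCharacter G, ¬ p ∣ Cfsg.charDegree (χ : G → ℂ) →
      Cfsg.IsIrrCharacter K (fun n : K => (χ : G → ℂ) n) := fun χ h =>
    BlocksChars5.Restrict.restrict_irr_of_coprime K χ
      (by rw [hidx]; exact ((hp.out.coprime_iff_not_dvd.2 h).symm).pow_right n)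
  have hmem : ∀ (χ : Cfsg.IrrCharacter G) (h : ¬ p ∣ Cfsg.charDegree (χ : G → ℂ)),
      (∀ a : P, a • (⟨_, hrestr χ h⟩ : Cfsg.IrrCharacter K) = ⟨_, hrestr χ h⟩) ∧
        ¬ p ∣ Cfsg.charDegree (fun n : K => (χ : G → ℂ) n) := by
    intro χ h
    refine ⟨fun a => Subtype.ext (conjC_restrict K (isClassFunction_irr χ) _), ?_⟩
    rwa [BlocksChars5.Basic.charDegree_congr (f' := (χ : G → ℂ)) (by simp)]
  have hext : ∀ θ ∈ Finset.univ.filter (fun θ : Cfsg.IrrCharacter K =>
      (∀ a : P, a • θ = θ) ∧ ¬ p ∣ Cfsg.charDegree (θ : K → ℂ)),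
      ∃ χ : Cfsg.IrrCharacter G,
        (¬ p ∣ Cfsg.charDegree (χ : G → ℂ) ∧ ¬ p ∣ Cfsg.detOrder (χ : G → ℂ)) ∧
        ∀ n : K, (χ : G → ℂ) n = (θ : K → ℂ) n := by
      intro θ hθ
      obtain ⟨-, hfix, hdvd⟩ := Finset.mem_filter.1 hθ
      have hinv := hfixed θ hfix
      obtain ⟨μ, hμ⟩ := Clifford.Extension.exists_detHom θ.2
      have hμinv : ∀ (g : G) (k : K), μ ⟨g * k * g⁻¹, hK.conj_mem k k.2 g⟩ = μ k := by
        intro g k
        refine Units.ext ?_
        obtain ⟨d, ρ, hρ, hρc⟩ := θ.2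
        have e1 := congrFun hμ ⟨g * k * g⁻¹, hK.conj_mem k k.2 g⟩
        have e2 := congrFun hμ k
        rw [← hρc, Clifford.Rep.detChar_eq ρ] at e1 e2
        change (μ _ : ℂ) = _ at e1 e2
        rw [e1, e2]
        refine Clifford.Rep.det_eq_of_char ρ (ρ.comp (MulAut.conjNormal g).toMonoidHom) ?_ k
        have := hinv g
        rw [conjC_eq_comp, ← hρc] at this
        exact this
      obtain ⟨lam, hlam, hlamo⟩ := exists_extend K P hKP μ (not_dvd_orderOf K hres μ) hμinv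
      obtain ⟨χ, hχ, hext, hdet⟩ := Clifford.Extension.exists_extension_char K θ.2
        (fun g k => congrFun (hinv g) k) (BlocksChars5.Basic.apply_one θ)
        (by rw [hidx]; exact (hp.out.coprime_iff_not_dvd.2 hdvd).pow_left n) lam
        (fun k => by rw [hlam, ← hμ]; rfl)
      refine ⟨⟨χ, hχ⟩, ⟨?_, ?_⟩, hext⟩
      · rwa [BlocksChars5.Basic.charDegree_congr (f' := (θ : K → ℂ))
          (by simpa using hext 1)]
      · rwa [Cfsg.detOrder, hdet, Clifford.Linear.orderOf_toFunHom]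
  choose E hE1 hE2 using hext
  symm
  refine Finset.sum_bij' (fun χ hχ => ⟨_, hrestr χ (Finset.mem_filter.1 hχ).2.1⟩) E ?_ ?_ ?_ ?_ ?_
  · intro χ hχ
    obtain ⟨h1, h2⟩ := hmem χ (Finset.mem_filter.1 hχ).2.1
    exact Finset.mem_filter.2 ⟨Finset.mem_univ _, h1, h2⟩
  · intro θ hθ
    exact Finset.mem_filter.2 ⟨Finset.mem_univ _, hE1 θ hθ⟩
  · intro χ hχ
    obtain ⟨-, hd, hdo⟩ := Finset.mem_filter.1 hχ
    have hm' : (⟨_, hrestr χ hd⟩ : Cfsg.IrrCharacter K) ∈ Finset.univ.filter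
        (fun θ : Cfsg.IrrCharacter K =>
          (∀ a : P, a • θ = θ) ∧ ¬ p ∣ Cfsg.charDegree (θ : K → ℂ)) :=
      Finset.mem_filter.2 ⟨Finset.mem_univ _, (hmem χ hd).1, (hmem χ hd).2⟩
    obtain ⟨hψd, hψo⟩ := hE1 _ hm'
    have hψres : ∀ k : K, (E _ hm' : G → ℂ) k = (χ : G → ℂ) k := hE2 _ hm'
    show E _ hm' = χ
    set ψ := E _ hm'
    obtain ⟨l, hl⟩ := Clifford.Extension.exists_detHom χ.2
    obtain ⟨l', hl'⟩ := Clifford.Extension.exists_detHom ψ.2
    refine Subtype.ext (Clifford.Extension.extension_unique_char K (hrestr χ hd)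
      (show (χ : G → ℂ) ((1 : K) : G) = _ by
        rw [OneMemClass.coe_one, BlocksChars5.Basic.apply_one])
      (by rw [hidx]; exact (hp.out.coprime_iff_not_dvd.2 hd).pow_left n) ψ.2 χ.2 hψres
      (fun _ => rfl) ?_)
    rw [← hl, ← hl']
    congr 1
    refine MonoidHom.ext fun g => ?_
    have hK1 : ∀ k : K, l k = l' k := fun k => Units.ext (by
      have e1 := Clifford.Extension.detChar_restrict K χ.2 (hrestr χ hd) (fun _ => rfl) k
      have e2 := Clifford.Extension.detChar_restrict K ψ.2 (hrestr χ hd) hψres k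
      exact (congrFun hl k).trans (e1.symm.trans (e2.trans (congrFun hl' k).symm)))
    have hpow : (l' g / l g) ^ p ^ n = 1 := by
      rw [div_pow, ← map_pow, ← map_pow, ← hidx,
        ← hK1 ⟨_, Subgroup.pow_index_mem K g⟩, div_self']
    rw [Cfsg.detOrder, ← hl, Clifford.Linear.orderOf_toFunHom] at hdo
    rw [Cfsg.detOrder, ← hl', Clifford.Linear.orderOf_toFunHom] at hψo
    have hpow2 : (l' g / l g) ^ (orderOf l' * orderOf l) = 1 := by
      have e' : l' g ^ (orderOf l' * orderOf l) = 1 := by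
        rw [pow_mul, ← MonoidHom.pow_apply, pow_orderOf_eq_one, MonoidHom.one_apply, one_pow]
      have e : l g ^ (orderOf l' * orderOf l) = 1 := by
        rw [mul_comm, pow_mul, ← MonoidHom.pow_apply, pow_orderOf_eq_one, MonoidHom.one_apply,
          one_pow]
      rw [div_pow, e', e, div_one]
    have h3 := pow_gcd_eq_one.2 ⟨hpow, hpow2⟩
    rw [Nat.Coprime.gcd_eq_one (((hp.out.coprime_iff_not_dvd.2 hψo).mul_right
      (hp.out.coprime_iff_not_dvd.2 hdo)).pow_left n), pow_one] at h3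
    exact div_eq_one.1 h3
  · intro θ hθ
    refine Subtype.ext (funext fun k => ?_)
    exact hE2 θ hθ k
  · intro χ hχ
    rw [BlocksChars5.Basic.charDegree_congr (f := fun n : K => (χ : G → ℂ) n)
      (f' := (χ : G → ℂ)) (by simp)]

end Cfsg.Agent.Lib.PrimeDegrees.Residual
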