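import Mathlib
import Cfsg.Agent.Lib.Characters.Basic
import Cfsg.Agent.Lib.Characters.Diag
import Cfsg.Agent.Lib.Characters.Complete

/-!
# Characters on a subgroup of prime order and Gauss periods

The multiplicities of the eigenvalues of an element of prime order `q`, their symmetry under the
group of exponents `H` that are realised by conjugation, and the orthogonality of Gauss periods.
-/

namespace Cfsg.Agent.Lib.PrimeDegrees.Periods

open scoped ComplexConjugate
open Cfsg.Agent.Lib.Characters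

universe u

variable {G : Type u} [Group G] [Finite G] {q : ℕ} [hq : Fact q.Prime] {x : G}

/-- The standard additive character. -/
noncomputable abbrev ψ (q : ℕ) [Fact q.Prime] : AddChar (ZMod q) ℂ := ZMod.stdAddChar

theorem sum_psi (b : ZMod q) : ∑ a : ZMod q, ψ q (a * b) = if b = 0 then (q : ℂ) else 0 := by
  rw [AddChar.sum_mulShift b (ZMod.isPrimitive_stdAddChar q), ZMod.card]
  split_ifs <;> simp

theorem sum_units (f : ZMod q → ℂ) : ∑ u : (ZMod q)ˣ, f u = (∑ a, f a) - f 0 := by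
  classical
  have h : ∑ u : (ZMod q)ˣ, f u = ∑ a ∈ Finset.univ.erase (0 : ZMod q), f a :=
    Finset.sum_bij (fun u _ => (u : ZMod q))
      (fun u _ => Finset.mem_erase.2 ⟨u.ne_zero, Finset.mem_univ _⟩)
      (fun _ _ _ _ h => Units.ext h)
      (fun a ha => ⟨Units.mk0 a (Finset.ne_of_mem_erase ha), Finset.mem_univ _, rfl⟩)
      (fun _ _ => rfl)
  rw [h, Finset.sum_erase_eq_sub (Finset.mem_univ _)]

theorem conj_psi (a : ZMod q) : conj (ψ q a) = ψ q (-a) := by
  rw [AddChar.map_neg_eq_inv]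
  refine (Complex.inv_eq_conj ?_).symm
  refine Complex.norm_eq_one_of_pow_eq_one ?_ hq.out.ne_zero
  rw [← AddChar.map_nsmul_eq_pow, ← Nat.cast_smul_eq_nsmul (ZMod q), ZMod.natCast_self, zero_smul,
    AddChar.map_zero_eq_one]

/-- The power of `x` with exponent in `ZMod q`. -/
def pw (x : G) (a : ZMod q) : G := x ^ a.val


/-- Fourier inversion for the multiplicities. -/
theorem mult_eq {f : ZMod q → ℂ} {m : ZMod q → ℕ}
    (hm : ∀ a, f a = ∑ j, (m j : ℂ) * ψ q (a * j)) (c : ZMod q) :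
    ∑ a, f a * ψ q (-(a * c)) = (q : ℂ) * m c := by
  classical
  simp only [hm, Finset.sum_mul]
  rw [Finset.sum_comm]
  have h : ∀ j : ZMod q, ∑ a : ZMod q, (m j : ℂ) * ψ q (a * j) * ψ q (-(a * c)) =
      (m j : ℂ) * if j - c = 0 then (q : ℂ) else 0 := by
    intro j
    rw [← sum_psi, Finset.mul_sum]
    refine Finset.sum_congr rfl fun a _ => ?_
    rw [mul_assoc, ← AddChar.map_add_eq_mul]
    congr 2
    ring
  rw [Finset.sum_congr rfl fun j _ => h j, Finset.sum_eq_single c]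
  · rw [sub_self, if_pos rfl, mul_comm]
  · intro j _ hj
    rw [if_neg (sub_ne_zero.2 hj), mul_zero]
  · exact fun h => absurd (Finset.mem_univ _) h

theorem sum_value {f : ZMod q → ℂ} {m : ZMod q → ℕ}
    (hm : ∀ a, f a = ∑ j, (m j : ℂ) * ψ q (a * j)) : ∑ a, f a = (q : ℂ) * m 0 := by
  simpa using mult_eq hm 0

theorem value_zero {f : ZMod q → ℂ} {m : ZMod q → ℕ}
    (hm : ∀ a, f a = ∑ j, (m j : ℂ) * ψ q (a * j)) : f 0 = ∑ j, (m j : ℂ) := by
  simp [hm 0]

theorem mult_mul {f : ZMod q → ℂ} {m : ZMod q → ℕ}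
    (hm : ∀ a, f a = ∑ j, (m j : ℂ) * ψ q (a * j)) (u : (ZMod q)ˣ)
    (hu : ∀ a, f (a * u) = f a) (j : ZMod q) : m (u * j) = m j := by
  have h1 := mult_eq hm j
  have h2 := mult_eq hm (u * j)
  rw [← Fintype.sum_equiv (Units.mulRight u) (fun a => f (a * u) * ψ q (-(a * u * j)))
    (fun a => f a * ψ q (-(a * j))) (fun a => rfl)] at h1
  simp only [hu, mul_assoc] at h1
  rw [h2] at h1
  exact_mod_cast mul_left_cancel₀ (Nat.cast_ne_zero.2 hq.out.ne_zero) h1

theorem sum_coset {α : Type*} [AddCommMonoid α] {K : Type*} [Group K] [Fintype K] (H : Subgroup K)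
    [Fintype H] [Fintype (K ⧸ H)] (F : K → α) :
    ∑ u, F u = ∑ c : K ⧸ H, ∑ h : H, F (c.out * (h : K)) := by
  rw [← Fintype.sum_prod_type (f := fun z : (K ⧸ H) × H => F (z.1.out * (z.2 : K)))]
  refine (Fintype.sum_bijective (fun z : (K ⧸ H) × H => z.1.out * (z.2 : K)) ⟨?_, ?_⟩ _ _
    fun _ => rfl).symm
  · rintro ⟨c, h⟩ ⟨c', h'⟩ he
    simp only at he
    have hc : c = c' := by
      have h1 := congrArg (QuotientGroup.mk (s := H)) he
      rwa [QuotientGroup.mk_mul_of_mem _ h.2, QuotientGroup.mk_mul_of_mem _ h'.2,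
        QuotientGroup.out_eq', QuotientGroup.out_eq'] at h1
    subst hc
    exact Prod.ext rfl (Subtype.ext (mul_left_cancel he))
  · intro u
    obtain ⟨h, hh⟩ := QuotientGroup.mk_out_eq_mul H u
    exact ⟨(QuotientGroup.mk u, h⁻¹), by simp only [hh, Subgroup.coe_inv, mul_inv_cancel_right]⟩

/-- The subgroup-sum of the additive character. -/
noncomputable def eta (H : Subgroup (ZMod q)ˣ) [Fintype H] (t : (ZMod q)ˣ) (a : ZMod q) : ℂ :=
  ∑ h : H, ψ q (a * ((t * (h : (ZMod q)ˣ) : (ZMod q)ˣ) : ZMod q))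

open scoped Classical in
theorem sum_eta (H : Subgroup (ZMod q)ˣ) [Fintype H] [Fintype ((ZMod q)ˣ ⧸ H)]
    {a : ZMod q} (ha : a ≠ 0) : ∑ c : (ZMod q)ˣ ⧸ H, eta H c.out a = -1 := by
  have h := sum_coset H fun u : (ZMod q)ˣ => ψ q (a * u)
  rw [sum_units (fun v => ψ q (a * v)), mul_zero, AddChar.map_zero_eq_one,
    Finset.sum_congr rfl fun v (_ : v ∈ Finset.univ) => show ψ q (a * v) = ψ q (v * a) by rw [mul_comm],
    sum_psi, if_neg ha, zero_sub] at h
  exact h.symm

open scoped Classical in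
/-- Orthogonality of Gauss periods. -/
theorem sum_eta_mul_conj (H : Subgroup (ZMod q)ˣ) [Fintype H] [Fintype ((ZMod q)ˣ ⧸ H)]
    (a b : (ZMod q)ˣ) : ∑ c : (ZMod q)ˣ ⧸ H, eta H c.out a * conj (eta H c.out b) =
      (if a⁻¹ * b ∈ H then (q : ℂ) else 0) - Fintype.card H := by
  let F : (ZMod q)ˣ → ℂ := fun u =>
    ∑ k : H, ψ q ((u : ZMod q) * ((a : ZMod q) - (b : ZMod q) * ((k : (ZMod q)ˣ) : ZMod q)))
  have h := sum_coset H F
  have hc : ∀ c : (ZMod q)ˣ ⧸ H, eta H c.out a * conj (eta H c.out b) =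
      ∑ y : H, F (c.out * (y : (ZMod q)ˣ)) := by
    intro c
    rw [eta, eta, map_sum, Finset.sum_mul]
    refine Finset.sum_congr rfl fun y _ => ?_
    rw [Finset.mul_sum]
    refine (Fintype.sum_equiv (Equiv.mulLeft y) _ _ fun k => ?_).symm
    rw [conj_psi, ← AddChar.map_add_eq_mul]
    simp only [Equiv.coe_mulLeft, Subgroup.coe_mul, Units.val_mul]
    congr 1
    ring
  rw [Finset.sum_congr rfl fun c _ => hc c, ← h, Finset.sum_comm]
  have hk : ∀ k : H, ∑ u : (ZMod q)ˣ,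
      ψ q ((u : ZMod q) * ((a : ZMod q) - (b : ZMod q) * ((k : (ZMod q)ˣ) : ZMod q))) =
      (if a = b * (k : (ZMod q)ˣ) then (q : ℂ) else 0) - 1 := by
    intro k
    rw [sum_units fun v => ψ q (v * ((a : ZMod q) - (b : ZMod q) * ((k : (ZMod q)ˣ) : ZMod q))),
      sum_psi, zero_mul, AddChar.map_zero_eq_one]
    congr 1
    refine if_congr ?_ rfl rfl
    rw [sub_eq_zero, ← Units.val_mul, Units.ext_iff]
  rw [Finset.sum_congr rfl fun k _ => hk k, Finset.sum_sub_distrib, Finset.sum_const,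
    nsmul_one, Finset.card_univ]
  congr 1
  split_ifs with hab
  · rw [Finset.sum_eq_single ⟨b⁻¹ * a, by simpa using inv_mem hab⟩]
    · rw [if_pos (by simp)]
    · intro k _ hk'
      refine if_neg fun h' => hk' (Subtype.ext ?_)
      simp [h']
    · exact fun h' => absurd (Finset.mem_univ _) h'
  · refine Finset.sum_eq_zero fun k _ => if_neg fun h' => hab ?_
    rw [h', mul_inv_rev, inv_mul_cancel_right]
    exact inv_mem k.2

variable (hx : orderOf x = q)
include hx

omit [Finite G] in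
theorem pw_mul (a b : ZMod q) : pw x (a * b) = pw x a ^ b.val := by
  rw [pw, pw, ← pow_mul, ← pow_mod_orderOf x (a.val * b.val), hx, ← ZMod.val_mul]

omit [Finite G] in
theorem pw_one : pw x (1 : ZMod q) = x := by
  rw [pw, ZMod.val_one, pow_one]

omit [Finite G] in
theorem pw_inj {a b : ZMod q} (h : pw x a = pw x b) : a = b := by
  have h1 := pow_injOn_Iio_orderOf (x := x)
  apply ZMod.val_injective q
  exact h1 (by rw [Set.mem_Iio, hx]; exact ZMod.val_lt a) (by rw [Set.mem_Iio, hx]; exact ZMod.val_lt b) h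

omit [Finite G] in
theorem pw_ne_one {a : ZMod q} (ha : a ≠ 0) : pw x a ≠ 1 := by
  intro h
  exact ha (pw_inj hx (h.trans (by rw [pw, ZMod.val_zero, pow_zero])))

omit [Finite G] in
theorem pow_eq_pw (k : ℕ) : x ^ k = pw x (k : ZMod q) := by
  rw [pw, ZMod.val_natCast, ← hx, pow_mod_orderOf]

/-- The multiplicities of the eigenvalues of `x`. -/
theorem exists_mult {χ : G → ℂ} (hχ : Cfsg.IsCharacter G χ) :
    ∃ m : ZMod q → ℕ, ∀ a : ZMod q, χ (pw x a) = ∑ j, (m j : ℂ) * ψ q (a * j) := by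
  classical
  obtain ⟨n, ρ, rfl⟩ := hχ
  obtain ⟨ι, hι, b, ζ, hb, -⟩ := Diag.exists_eigenbasis (ρ := ρ) x hq.out.ne_zero
    (by rw [← hx]; exact pow_orderOf_eq_one x)
  have hζ : IsPrimitiveRoot (ψ q 1) q := by
    have h1 : ψ q 1 ^ q = 1 := by
      rw [← AddChar.map_nsmul_eq_pow, ← Nat.cast_smul_eq_nsmul (ZMod q), ZMod.natCast_self,
        zero_smul, AddChar.map_zero_eq_one]
    rw [IsPrimitiveRoot.iff_orderOf]
    refine orderOf_eq_prime h1 fun h => ?_
    rw [← AddChar.map_zero_eq_one (ψ q)] at h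
    exact one_ne_zero (ZMod.injective_stdAddChar h)
  have hch : ∀ i, ∃ j : ZMod q, ψ q j = ζ i := by
    intro i
    obtain ⟨k, -, hk⟩ := hζ.eq_pow_of_pow_eq_one (hb i).2
    exact ⟨(k : ZMod q), by rw [← hk, ← AddChar.map_nsmul_eq_pow, nsmul_one]⟩
  choose j hj using hch
  refine ⟨fun c => (Finset.univ.filter fun i => j i = c).card, fun a => ?_⟩
  have h2 : ∀ i, (ρ (pw x a)) (b i) = ζ i ^ a.val • b i := by
    intro i
    rw [pw, map_pow]
    generalize a.val = k
    induction k with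
    | zero => simp
    | succ k ih => rw [pow_succ, Module.End.mul_apply, (hb i).1, map_smul, ih, smul_smul, pow_succ']
  rw [show ρ.character (pw x a) = ∑ i, ζ i ^ a.val from
    Diag.trace_eq_sum_eigenvalues b _ _ h2]
  rw [← Finset.sum_fiberwise Finset.univ j]
  refine Finset.sum_congr rfl fun c _ => ?_
  rw [Finset.sum_congr rfl fun i hi => show ζ i ^ a.val = ψ q (a * c) by
    rw [← hj, ← AddChar.map_nsmul_eq_pow, (Finset.mem_filter.1 hi).2, nsmul_eq_mul,
      ZMod.natCast_zmod_val], Finset.sum_const, nsmul_eq_mul]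

end Cfsg.Agent.Lib.PrimeDegrees.Periods
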